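import Groth.Agent.SpSeqLib.DerivedSeq

/-!
# Long exact sequences of derived functors with a biproduct in the middle
-/

set_option autoImplicit false
set_option backward.isDefEq.respectTransparency false
set_option linter.style.haveILetI false

universe v₁ v₂ u₁ u₂

open CategoryTheory CategoryTheory.Limits

noncomputable section

attribute [local instance] CategoryTheory.Abelian.hasFiniteBiproducts

namespace Groth.Agent.RelMVLib

variable {A : Type u₁} [Category.{v₁} A] [Abelian A] [HasInjectiveResolutions A]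
  {B : Type u₂} [Category.{v₂} B] [Abelian B]

theorem rightDerived_add_app {F G : A ⥤ B} [F.Additive] [G.Additive] (a b : F ⟶ G) (n : ℕ) (X : A) :
    (NatTrans.rightDerived (a + b) n).app X =
      (NatTrans.rightDerived a n).app X + (NatTrans.rightDerived b n).app X := by
  simp only [InjectiveResolution.rightDerived_app_eq _ (injectiveResolution X) n]
  rw [show (NatTrans.mapHomologicalComplex (a + b) (ComplexShape.up ℕ)).app (injectiveResolution X).cocomplex =
    (NatTrans.mapHomologicalComplex a _).app (injectiveResolution X).cocomplex +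
      (NatTrans.mapHomologicalComplex b _).app (injectiveResolution X).cocomplex from by ext; simp,
    Functor.map_add, Preadditive.add_comp, Preadditive.comp_add]

theorem rightDerived_zero_app {F G : A ⥤ B} [F.Additive] [G.Additive] (n : ℕ) (X : A) :
    (NatTrans.rightDerived (0 : F ⟶ G) n).app X = 0 := by
  have h := rightDerived_add_app (0 : F ⟶ G) 0 n X
  rw [add_zero] at h
  exact left_eq_add.1 h

theorem rightDerived_neg_app {F G : A ⥤ B} [F.Additive] [G.Additive] (a : F ⟶ G) (n : ℕ) (X : A) :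
    (NatTrans.rightDerived (-a) n).app X = -(NatTrans.rightDerived a n).app X := by
  rw [eq_neg_iff_add_eq_zero, ← rightDerived_add_app, neg_add_cancel, rightDerived_zero_app]

variable (G₁ G₂ : A ⥤ B) [G₁.Additive] [G₂.Additive]

/-- The sum of two functors. -/
@[simps]
def sumF : A ⥤ B where
  obj X := G₁.obj X ⊞ G₂.obj X
  map f := biprod.map (G₁.map f) (G₂.map f)
  map_id X := by ext <;> simp
  map_comp f g := by ext <;> simp

instance : (sumF G₁ G₂).Additive where
  map_add {X Y f g} := by
    show biprod.map (G₁.map (f + g)) (G₂.map (f + g)) =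
      biprod.map (G₁.map f) (G₂.map f) + biprod.map (G₁.map g) (G₂.map g)
    ext <;> simp

/-- The first inclusion. -/
def sInl : G₁ ⟶ sumF G₁ G₂ where app X := biprod.inl
/-- The second inclusion. -/
def sInr : G₂ ⟶ sumF G₁ G₂ where app X := biprod.inr
/-- The first projection. -/
def sFst : sumF G₁ G₂ ⟶ G₁ where app X := biprod.fst
/-- The second projection. -/
def sSnd : sumF G₁ G₂ ⟶ G₂ where app X := biprod.snd

theorem sum_rels : sInl G₁ G₂ ≫ sFst G₁ G₂ = 𝟙 _ ∧ sInr G₁ G₂ ≫ sSnd G₁ G₂ = 𝟙 _ ∧
    sInl G₁ G₂ ≫ sSnd G₁ G₂ = 0 ∧ sInr G₁ G₂ ≫ sFst G₁ G₂ = 0 ∧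
    sFst G₁ G₂ ≫ sInl G₁ G₂ + sSnd G₁ G₂ ≫ sInr G₁ G₂ = 𝟙 _ := by
  refine ⟨?_, ?_, ?_, ?_, ?_⟩
  all_goals ext X
  · exact biprod.inl_fst
  · exact biprod.inr_snd
  · exact biprod.inl_snd
  · exact biprod.inr_fst
  · exact biprod.total

/-- Derived functors of a sum. -/
def sumIso (n : ℕ) (X : A) :
    ((sumF G₁ G₂).rightDerived n).obj X ≅ (G₁.rightDerived n).obj X ⊞ (G₂.rightDerived n).obj X where
  hom := biprod.lift ((NatTrans.rightDerived (sFst G₁ G₂) n).app X) ((NatTrans.rightDerived (sSnd G₁ G₂) n).app X)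
  inv := biprod.desc ((NatTrans.rightDerived (sInl G₁ G₂) n).app X) ((NatTrans.rightDerived (sInr G₁ G₂) n).app X)
  hom_inv_id := by
    rw [biprod.lift_desc, ← NatTrans.comp_app, ← NatTrans.comp_app, ← NatTrans.rightDerived_comp,
      ← NatTrans.rightDerived_comp, ← rightDerived_add_app, (sum_rels G₁ G₂).2.2.2.2, NatTrans.rightDerived_id,
      NatTrans.id_app]
  inv_hom_id := by
    apply biprod.hom_ext' <;> apply biprod.hom_ext
    all_goals simp only [Category.assoc, biprod.inl_desc_assoc, biprod.inr_desc_assoc, biprod.lift_fst, biprod.lift_snd,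
      Category.comp_id, biprod.inl_fst, biprod.inl_snd, biprod.inr_fst, biprod.inr_snd]
    all_goals rw [← NatTrans.comp_app, ← NatTrans.rightDerived_comp]
    · rw [(sum_rels G₁ G₂).1, NatTrans.rightDerived_id, NatTrans.id_app]
    · rw [(sum_rels G₁ G₂).2.2.1, rightDerived_zero_app]
    · rw [(sum_rels G₁ G₂).2.2.2.1, rightDerived_zero_app]
    · rw [(sum_rels G₁ G₂).2.1, NatTrans.rightDerived_id, NatTrans.id_app]

variable {F H : A ⥤ B} [F.Additive] [H.Additive] (α : F ⟶ sumF G₁ G₂) (β : sumF G₁ G₂ ⟶ H)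
  (w : ∀ X, α.app X ≫ β.app X = 0)
  (hex : ∀ I : A, Injective I → (ShortComplex.mk (α.app I) (β.app I) (w I)).ShortExact)

include hex in
theorem exists_les (a₁ : F ⟶ G₁) (a₂ : F ⟶ G₂) (b₁ : G₁ ⟶ H) (b₂ : G₂ ⟶ H)
    (ha₁ : α ≫ sFst G₁ G₂ = a₁) (ha₂ : α ≫ sSnd G₁ G₂ = a₂)
    (hb₁ : sInl G₁ G₂ ≫ β = b₁) (hb₂ : sInr G₁ G₂ ≫ β = -b₂) (X : A) :
    ∃ δ : ∀ n : ℕ, (H.rightDerived n).obj X ⟶ (F.rightDerived (n + 1)).obj X,
      Mono (biprod.lift ((NatTrans.rightDerived a₁ 0).app X) ((NatTrans.rightDerived a₂ 0).app X)) ∧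
      ∀ n : ℕ,
        (ComposableArrows.mk₂
          (biprod.lift ((NatTrans.rightDerived a₁ n).app X) ((NatTrans.rightDerived a₂ n).app X))
          (biprod.desc ((NatTrans.rightDerived b₁ n).app X) (-((NatTrans.rightDerived b₂ n).app X)))).Exact ∧
        (ComposableArrows.mk₂
          (biprod.desc ((NatTrans.rightDerived b₁ n).app X) (-((NatTrans.rightDerived b₂ n).app X))) (δ n)).Exact ∧
        (ComposableArrows.mk₂ (δ n)
          (biprod.lift ((NatTrans.rightDerived a₁ (n + 1)).app X)
            ((NatTrans.rightDerived a₂ (n + 1)).app X))).Exact := by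
  subst ha₁ ha₂ hb₁
  have hl : ∀ n, biprod.lift ((NatTrans.rightDerived (α ≫ sFst G₁ G₂) n).app X)
      ((NatTrans.rightDerived (α ≫ sSnd G₁ G₂) n).app X) =
      (NatTrans.rightDerived α n).app X ≫ (sumIso G₁ G₂ n X).hom := fun n => by
    rw [NatTrans.rightDerived_comp, NatTrans.rightDerived_comp, NatTrans.comp_app, NatTrans.comp_app]
    ext <;> simp [sumIso]
  have hd : ∀ n, biprod.desc ((NatTrans.rightDerived (sInl G₁ G₂ ≫ β) n).app X)
      (-((NatTrans.rightDerived b₂ n).app X)) =
      (sumIso G₁ G₂ n X).inv ≫ (NatTrans.rightDerived β n).app X := fun n => by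
    rw [← rightDerived_neg_app, ← hb₂, NatTrans.rightDerived_comp, NatTrans.rightDerived_comp, NatTrans.comp_app, NatTrans.comp_app]
    ext <;> simp [sumIso]
  let P := injectiveResolution X
  have hS := SpSeqLib.shortExact_seqCx α β w hex P
  refine ⟨fun n => (SpSeqLib.derivedδ α β w hex n).app X, ?_, fun n => ⟨?_, ?_, ?_⟩⟩
  · rw [hl, InjectiveResolution.rightDerived_app_eq α P 0]
    haveI : Mono (HomologicalComplex.homologyMap ((NatTrans.mapHomologicalComplex α (ComplexShape.up ℕ)).app P.cocomplex) 0) := by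
      haveI := hS.mono_f
      haveI : Mono ((NatTrans.mapHomologicalComplex α (ComplexShape.up ℕ)).app P.cocomplex) := hS.mono_f
      haveI : Mono (((NatTrans.mapHomologicalComplex α (ComplexShape.up ℕ)).app P.cocomplex).f 0) :=
        inferInstanceAs (Mono ((HomologicalComplex.eval B _ 0).map
          ((NatTrans.mapHomologicalComplex α (ComplexShape.up ℕ)).app P.cocomplex)))
      haveI : Mono (HomologicalComplex.cyclesMap ((NatTrans.mapHomologicalComplex α (ComplexShape.up ℕ)).app P.cocomplex) 0) :=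
        mono_of_mono_fac (HomologicalComplex.cyclesMap_i _ 0)
      have e : (CochainComplex.isoHomologyπ₀ ((F.mapHomologicalComplex _).obj P.cocomplex)).hom ≫
          HomologicalComplex.homologyMap ((NatTrans.mapHomologicalComplex α _).app P.cocomplex) 0 =
          HomologicalComplex.cyclesMap ((NatTrans.mapHomologicalComplex α _).app P.cocomplex) 0 ≫
            (CochainComplex.isoHomologyπ₀ (((sumF G₁ G₂).mapHomologicalComplex _).obj P.cocomplex)).hom :=
        HomologicalComplex.homologyπ_naturality _ 0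
      rw [← Iso.eq_inv_comp] at e
      rw [e]
      infer_instance
    simp only [HomologicalComplex.homologyFunctor_map]
    infer_instance
  · rw [hl, hd]
    refine (ShortComplex.Exact.exact_toComposableArrows (S := ShortComplex.mk _ _ ?_) ?_)
    · rw [Category.assoc, Iso.hom_inv_id_assoc, ← NatTrans.comp_app, ← NatTrans.rightDerived_comp,
        show α ≫ β = 0 from NatTrans.ext (funext w), rightDerived_zero_app]
    refine ShortComplex.exact_of_iso ?_ (hS.homology_exact₂ n)
    refine ShortComplex.isoMk (P.isoRightDerivedObj F n).symm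
      ((P.isoRightDerivedObj (sumF G₁ G₂) n).symm ≪≫ sumIso G₁ G₂ n X) (P.isoRightDerivedObj H n).symm ?_ ?_
    · dsimp
      rw [InjectiveResolution.rightDerived_app_eq α P n]
      simp
      rfl
    · dsimp
      rw [InjectiveResolution.rightDerived_app_eq β P n]
      simp
      rfl
  · rw [hd]
    refine (ShortComplex.Exact.exact_toComposableArrows (S := ShortComplex.mk _ _ ?_) ?_)
    · rw [Category.assoc, SpSeqLib.rightDerived_comp_derivedδ, comp_zero]
    refine ShortComplex.exact_of_iso ?_ (SpSeqLib.exact_derivedδ α β w hex n X)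
    exact ShortComplex.isoMk (sumIso G₁ G₂ n X) (Iso.refl _) (Iso.refl _) (by simp) (by simp)
  · rw [hl]
    refine (ShortComplex.Exact.exact_toComposableArrows (S := ShortComplex.mk _ _ ?_) ?_)
    · rw [InjectiveResolution.rightDerived_app_eq α P (n + 1)]
      simp only [SpSeqLib.derivedδ, Category.assoc]
      have h0 : hS.δ n (n + 1) rfl ≫ (HomologicalComplex.homologyFunctor B (ComplexShape.up ℕ) (n + 1)).map
          ((NatTrans.mapHomologicalComplex α (ComplexShape.up ℕ)).app P.cocomplex) = 0 := hS.δ_comp n (n + 1) rfl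
      refine (congrArg (_ ≫ ·) ((congrArg (_ ≫ ·) (Iso.inv_hom_id_assoc (P.isoRightDerivedObj F (n + 1)) _)).trans
        (((Category.assoc _ _ _).symm.trans (congrArg (· ≫ _) h0)).trans zero_comp))).trans comp_zero
    refine ShortComplex.exact_of_iso ?_ (hS.homology_exact₁ n (n + 1) rfl)
    refine ShortComplex.isoMk (P.isoRightDerivedObj H n).symm (P.isoRightDerivedObj F (n + 1)).symm
      ((P.isoRightDerivedObj (sumF G₁ G₂) (n + 1)).symm ≪≫ sumIso G₁ G₂ (n + 1) X) ?_ ?_
    · dsimp [SpSeqLib.derivedδ]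
      rw [Iso.inv_hom_id_assoc]
    · dsimp
      rw [InjectiveResolution.rightDerived_app_eq α P (n + 1)]
      simp
      rfl

end Groth.Agent.RelMVLib
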