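import Groth.Prelude.Def_CohCx
import Groth.Agent.LocZLib.Flasque
import Groth.Agent.RelMVLib.Derived

/-!
# The relative Mayer–Vietoris sequence of an injective sheaf
-/

set_option autoImplicit false
set_option backward.isDefEq.respectTransparency false
set_option linter.style.haveILetI false

universe u

open CategoryTheory CategoryTheory.Limits TopologicalSpace Opposite

noncomputable section

attribute [local instance] CategoryTheory.Abelian.hasFiniteBiproducts

namespace Groth.Agent.RelMVLib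

variable {X Y : TopCat.{u}} (f : X ⟶ Y)

/-- The open `U ∩ f⁻¹ W`. -/
abbrev img (U : Opens X) (W : Opens Y) : Opens X :=
  U.isOpenEmbedding.functor.obj ((Opens.map (CohCx.incl U ≫ f)).obj W)

theorem mem_img {U : Opens X} {W : Opens Y} {x : X} : x ∈ img f U W ↔ x ∈ U ∧ f.hom x ∈ W := by
  constructor
  · rintro ⟨y, hy, rfl⟩
    exact ⟨y.2, hy⟩
  · rintro ⟨hU, hW⟩
    exact ⟨⟨x, hU⟩, hW, rfl⟩

theorem img_le (U : Opens X) (W : Opens Y) : img f U W ≤ (Opens.map f).obj W := fun _ hx => ((mem_img f).1 hx).2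

theorem img_mono {U V : Opens X} (h : V ≤ U) (W : Opens Y) : img f V W ≤ img f U W := fun _ hx =>
  (mem_img f).2 ⟨h ((mem_img f).1 hx).1, ((mem_img f).1 hx).2⟩

variable (U V : Opens X)

/-- The middle functor. -/
abbrev mid : CohTop.Ab X ⥤ CohTop.Ab Y :=
  sumF (CohTop.restrFunctor U ⋙ CohTop.push (CohCx.incl U ≫ f)) (CohTop.restrFunctor V ⋙ CohTop.push (CohCx.incl V ≫ f))

/-- The first map. -/
def mvα : CohTop.push f ⟶ mid f U V where
  app F := biprod.lift ((CohCx.pushToRestrPush f U).app F) ((CohCx.pushToRestrPush f V).app F)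
  naturality F G φ := by
    show _ ≫ biprod.lift _ _ = biprod.lift _ _ ≫ biprod.map _ _
    refine biprod.hom_ext _ _ ?_ ?_
    · simp only [Category.assoc, biprod.lift_fst, biprod.map_fst, biprod.lift_fst_assoc]
      exact (CohCx.pushToRestrPush f U).naturality φ
    · simp only [Category.assoc, biprod.lift_snd, biprod.map_snd, biprod.lift_snd_assoc]
      exact (CohCx.pushToRestrPush f V).naturality φ

/-- The second map. -/
def mvβ : mid f U V ⟶ CohTop.restrFunctor (U ⊓ V) ⋙ CohTop.push (CohCx.incl (U ⊓ V) ≫ f) where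
  app F := biprod.desc ((CohCx.restrPushToRestrPush f (inf_le_left : U ⊓ V ≤ U)).app F)
    (-((CohCx.restrPushToRestrPush f (inf_le_right : U ⊓ V ≤ V)).app F))
  naturality F G φ := by
    show biprod.map _ _ ≫ _ = _ ≫ _
    refine biprod.hom_ext' _ _ ?_ ?_
    · simp only [biprod.inl_map_assoc, biprod.inl_desc, biprod.inl_desc_assoc]
      exact (CohCx.restrPushToRestrPush f (inf_le_left : U ⊓ V ≤ U)).naturality φ
    · simp only [biprod.inr_map_assoc, biprod.inr_desc, biprod.inr_desc_assoc, Preadditive.comp_neg,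
        Preadditive.neg_comp]
      exact congrArg Neg.neg ((CohCx.restrPushToRestrPush f (inf_le_right : U ⊓ V ≤ V)).naturality φ)

theorem restr_restr (F : CohTop.Ab X) {A B C : Opens X} (h : B ≤ A) (h' : C ≤ B) (s : F.obj.obj (op A)) :
    F.obj.map (homOfLE h').op (F.obj.map (homOfLE h).op s) = F.obj.map (homOfLE (h'.trans h)).op s := by
  rw [← ConcreteCategory.comp_apply, ← F.obj.map_comp]
  rfl

theorem mvα_comp_mvβ (F : CohTop.Ab X) : (mvα f U V).app F ≫ (mvβ f U V).app F = 0 := by
  show biprod.lift _ _ ≫ biprod.desc _ _ = 0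
  rw [biprod.lift_desc, Preadditive.comp_neg, ← sub_eq_add_neg, sub_eq_zero]
  refine CategoryTheory.Sheaf.hom_ext (NatTrans.ext (funext fun W => ?_))
  show F.obj.map _ ≫ F.obj.map _ = F.obj.map _ ≫ F.obj.map _
  rw [← F.obj.map_comp, ← F.obj.map_comp]
  rfl

variable (hUV : U ⊔ V = ⊤)

include hUV in
theorem shortExact_mv (I : CohTop.Ab X) [Injective I] :
    (ShortComplex.mk ((mvα f U V).app I) ((mvβ f U V).app I) (mvα_comp_mvβ f U V I)).ShortExact := by
  let S := ShortComplex.mk ((mvα f U V).app I) ((mvβ f U V).app I) (mvα_comp_mvβ f U V I)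
  let P := sheafToPresheaf (Opens.grothendieckTopology Y) AddCommGrpCat.{u}
  have hcov : ∀ W : Opens Y, (Opens.map f).obj W ≤ img f U W ⊔ img f V W := fun W x hx => by
    have : x ∈ U ⊔ V := by rw [hUV]; trivial
    rcases this with h | h
    · exact Or.inl ((mem_img f).2 ⟨h, hx⟩)
    · exact Or.inr ((mem_img f).2 ⟨h, hx⟩)
  -- components of sections of the middle term
  let p₁ : S.X₂ ⟶ _ := (biprod.fst : _ ⟶ (CohTop.restrFunctor U ⋙ CohTop.push (CohCx.incl U ≫ f)).obj I)
  let p₂ : S.X₂ ⟶ _ := (biprod.snd : _ ⟶ (CohTop.restrFunctor V ⋙ CohTop.push (CohCx.incl V ≫ f)).obj I)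
  let i₁ : _ ⟶ S.X₂ := (biprod.inl : (CohTop.restrFunctor U ⋙ CohTop.push (CohCx.incl U ≫ f)).obj I ⟶ _)
  let i₂ : _ ⟶ S.X₂ := (biprod.inr : (CohTop.restrFunctor V ⋙ CohTop.push (CohCx.incl V ≫ f)).obj I ⟶ _)
  have h1 : ∀ (W : Opens Y) (s : I.obj.obj (op ((Opens.map f).obj W))),
      p₁.hom.app (op W) (S.f.hom.app (op W) s) = I.obj.map (homOfLE (img_le f U W)).op s := fun W s => by
    rw [← ConcreteCategory.comp_apply]
    exact congrArg (fun φ : (CohTop.push f).obj I ⟶ _ => φ.hom.app (op W) s) (biprod.lift_fst _ _)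
  have h2 : ∀ (W : Opens Y) (s : I.obj.obj (op ((Opens.map f).obj W))),
      p₂.hom.app (op W) (S.f.hom.app (op W) s) = I.obj.map (homOfLE (img_le f V W)).op s := fun W s => by
    rw [← ConcreteCategory.comp_apply]
    exact congrArg (fun φ : (CohTop.push f).obj I ⟶ _ => φ.hom.app (op W) s) (biprod.lift_snd _ _)
  have htot : ∀ (W : (Opens Y)ᵒᵖ) (t : S.X₂.obj.obj W),
      i₁.hom.app W (p₁.hom.app W t) + i₂.hom.app W (p₂.hom.app W t) = t := fun W t =>
    congrArg (fun φ : S.X₂ ⟶ S.X₂ => φ.hom.app W t) (biprod.total :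
      p₁ ≫ i₁ + p₂ ≫ i₂ = 𝟙 S.X₂)
  have hg : ∀ (W : Opens Y) (t : S.X₂.obj.obj (op W)), S.g.hom.app (op W) t =
      I.obj.map (homOfLE (img_mono f (inf_le_left : U ⊓ V ≤ U) W)).op (p₁.hom.app (op W) t) -
        I.obj.map (homOfLE (img_mono f (inf_le_right : U ⊓ V ≤ V) W)).op (p₂.hom.app (op W) t) := fun W t => by
    have e₁ : i₁ ≫ S.g = (CohCx.restrPushToRestrPush f (inf_le_left : U ⊓ V ≤ U)).app I := biprod.inl_desc _ _
    have e₂ : i₂ ≫ S.g = -((CohCx.restrPushToRestrPush f (inf_le_right : U ⊓ V ≤ V)).app I) := biprod.inr_desc _ _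
    conv_lhs => rw [← htot (op W) t, map_add]
    rw [sub_eq_add_neg]
    refine congrArg₂ (· + ·) ?_ ?_
    · exact congrArg (fun φ : (CohTop.restrFunctor U ⋙ CohTop.push (CohCx.incl U ≫ f)).obj I ⟶ S.X₃ =>
        φ.hom.app (op W) (p₁.hom.app (op W) t)) e₁
    · exact congrArg (fun φ : (CohTop.restrFunctor V ⋙ CohTop.push (CohCx.incl V ≫ f)).obj I ⟶ S.X₃ =>
        φ.hom.app (op W) (p₂.hom.app (op W) t)) e₂
  haveI hmono : Mono S.f := by
    haveI : ∀ W, Mono ((P.map S.f).app W) := fun W => by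
      obtain ⟨W⟩ := W
      rw [AddCommGrpCat.mono_iff_injective]
      intro s s' h
      refine TopCat.Sheaf.eq_of_locally_eq₂ I (homOfLE (img_le f U W)) (homOfLE (img_le f V W)) (hcov W) s s' ?_ ?_
      · rw [← h1 W s, ← h1 W s']; exact congrArg (p₁.hom.app (op W)) h
      · rw [← h2 W s, ← h2 W s']; exact congrArg (p₂.hom.app (op W)) h
    haveI : Mono (P.map S.f) := NatTrans.mono_of_mono_app _
    exact P.mono_of_mono_map inferInstance
  refine ShortComplex.ShortExact.mk' ?_ hmono ?_
  · haveI : Mono (S.map P).f := inferInstanceAs (Mono (P.map S.f))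
    have hP : (S.map P).Exact := Groth.Agent.KFlat.exact_of_pointwise _ fun W => by
      obtain ⟨W⟩ := W
      rw [ShortComplex.ab_exact_iff]
      intro t ht
      change S.g.hom.app (op W) t = 0 at ht
      rw [hg, sub_eq_zero] at ht
      let t₁ := p₁.hom.app (op W) t
      let t₂ := p₂.hom.app (op W) t
      let Ws : Bool → Opens X := fun b => bif b then img f U W else img f V W
      obtain ⟨s, hs, -⟩ := TopCat.Sheaf.existsUnique_gluing' I Ws ((Opens.map f).obj W)
        (fun b => homOfLE (by cases b <;> exact img_le f _ W))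
        ((hcov W).trans (sup_le (le_iSup Ws true) (le_iSup Ws false)))
        (fun b => match b with | true => t₁ | false => t₂) (by
          intro b b'
          have hk : ∀ {C : Opens X} (h₁ : C ≤ img f U W) (h₂ : C ≤ img f V W),
              I.obj.map (homOfLE h₁).op t₁ = I.obj.map (homOfLE h₂).op t₂ := fun {C} h₁ h₂ => by
            have hC : C ≤ img f (U ⊓ V) W := fun x hx =>
              (mem_img f).2 ⟨⟨((mem_img f).1 (h₁ hx)).1, ((mem_img f).1 (h₂ hx)).1⟩, ((mem_img f).1 (h₁ hx)).2⟩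
            rw [← restr_restr I (img_mono f inf_le_left W) hC t₁,
              ← restr_restr I (img_mono f inf_le_right W) hC t₂, ht]
          cases b <;> cases b'
          · rfl
          · exact (hk inf_le_right inf_le_left).symm
          · exact hk inf_le_left inf_le_right
          · rfl)
      refine ⟨s, ?_⟩
      show S.f.hom.app (op W) s = t
      rw [← htot (op W) t, ← htot (op W) (S.f.hom.app (op W) s), h1, h2]
      exact congrArg₂ (· + ·) (congrArg _ (hs true)) (congrArg _ (hs false))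
    exact ShortComplex.exact_of_f_is_kernel _
      (isLimitOfIsLimitForkMap P S.zero hP.fIsKernel)
  · haveI : CategoryTheory.Sheaf.IsLocallySurjective S.g :=
      Presheaf.isLocallySurjective_of_surjective _ _ fun W s => by
        obtain ⟨W⟩ := W
        obtain ⟨s₁, hs₁⟩ := LocZLib.surjective_res_flasque I (img_mono f (inf_le_left : U ⊓ V ≤ U) W) s
        refine ⟨i₁.hom.app (op W) s₁, ?_⟩
        refine Eq.trans ?_ hs₁
        exact congrArg (fun φ : (CohTop.restrFunctor U ⋙ CohTop.push (CohCx.incl U ≫ f)).obj I ⟶ S.X₃ =>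
          φ.hom.app (op W) s₁) (biprod.inl_desc _ _)
    exact (CategoryTheory.Sheaf.isLocallySurjective_iff_epi' (J := Opens.grothendieckTopology Y) AddCommGrpCat.{u} S.g).1 inferInstance

end Groth.Agent.RelMVLib
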